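import Groth.Agent.DvrCd.CdOne
import Groth.Agent.CdDim.DimOne
import Groth.Agent.CdDim.Main
import Groth.Agent.Goldman.Scheme
import Groth.Agent.S9262
import Groth.Agent.S9681

/-! one-dimensional regular schemes whose function field has dimension two -/

universe u

open CategoryTheory CategoryTheory.Limits AlgebraicGeometry Opposite

namespace Groth.Agent.HLocCd

set_option autoImplicit false
set_option maxHeartbeats 1000000
set_option synthInstance.maxHeartbeats 400000
set_option backward.isDefEq.respectTransparency false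
set_option backward.isDefEq.respectTransparency.types false
set_option linter.style.haveILetI false

theorem cohDimLE_three {U : Scheme.{u}} [IsIntegral U] [AlgebraicGeometry.IsNoetherian U]
    (hdim : topologicalKrullDim U ≤ 1)
    (hdvr : ∀ y : U, y ≠ genericPoint U → ∃ _ : IsDomain (U.presheaf.stalk y), IsDiscreteValuationRing (U.presheaf.stalk y))
    (hchar : ∀ (y : U) (n : ℕ), n ≠ 0 → IsUnit (n : U.presheaf.stalk y))
    (hK : EtCoh.CohDimLE (Spec (U.residueField (genericPoint U))) 2)
    (hv : ∀ y : U, y ≠ genericPoint U → EtCoh.CohDimLE (Spec (U.residueField y)) 1) :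
    EtCoh.CohDimLE U 3 := by
  classical
  refine CdDim.cohDimLE_of_forall fun ℓ hℓ => ?_
  let η := genericPoint U
  let φ : U → ℕ := fun x => if x = η then 3 else 1
  intro F hF q hq
  refine CdDim.subsingleton_H_of_dimension_function hℓ φ (fun x => ?_) (fun x y hxy hne R _ _ _ _ _ P hP => ?_) q F hF
    (fun x _ => ?_)
  · by_cases hx : x = η
    · have h : φ x = 3 := if_pos hx
      rw [h, hx]
      exact fun G hG n hn => CdDim.cohDimLEAt_of_cohDimLE hK ℓ hℓ G hG n (by omega)
    · have h : φ x = 1 := if_neg hx
      rw [h]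
      exact CdDim.cohDimLEAt_of_cohDimLE (hv x hx) ℓ hℓ
  · have hxη : x = η := by
      by_contra hx
      exact hne (Set.mem_singleton_iff.1 (hxy.mem_closed (Goldman.isClosed_of_dim_le_one hdim hx) rfl)).symm
    have hyη : y ≠ η := fun h => hne (hxη.trans h.symm)
    have hφx : φ x = 3 := if_pos hxη
    have hφy : φ y = 1 := if_neg hyη
    refine ⟨1, by omega, ?_⟩
    obtain ⟨_, _⟩ := hdvr y hyη
    have h' := Groth.Agent.Hensel.isHenzLike_of_isStrictHenselization (U.presheaf.stalk y) R
    haveI := h'.isNoetherianRing_iff.mp inferInstance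
    obtain ⟨_, _⟩ := (Groth.Agent.S9262.dvr_iff R).2
      ⟨h'.isRegularLocalRing_iff.1 ((Groth.Agent.S9262.dvr_iff (U.presheaf.stalk y)).1 ⟨inferInstance, inferInstance⟩).1,
        h'.ringKrullDim_eq.trans ((Groth.Agent.S9262.dvr_iff (U.presheaf.stalk y)).1 ⟨inferInstance, inferInstance⟩).2⟩
    haveI : IsSepClosed (IsLocalRing.ResidueField R) :=
      (Hensel.IsStrictHenselization.isSepClosure (R := U.presheaf.stalk y) (S := R)).sep_closed
    haveI : HenselianLocalRing R := Hensel.IsStrictHenselization.henselian (R := U.presheaf.stalk y)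
    haveI := hP.1.1
    have hker : RingHom.ker (Cyc.specMap y x hxy) = ⊥ := by
      subst hxη
      refine (RingHom.injective_iff_ker_eq_bot _).1 (Function.Injective.comp (g := U.residue η) ?_ ?_)
      · exact ((ConcreteCategory.isIso_iff_bijective _).1 (Groth.Agent.S9681.isIso_residue (X := U))).1
      · exact IsFractionRing.injective (U.presheaf.stalk y) U.functionField
    have hP0 : P = ⊥ := by
      rw [hker, Ideal.map_bot] at hP
      exact le_bot_iff.1 (hP.2 ⟨Ideal.isPrime_bot, le_rfl⟩ bot_le)
    subst hP0
    letI : Algebra R (FractionRing (R ⧸ (⊥ : Ideal R))) :=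
      ((algebraMap (R ⧸ (⊥ : Ideal R)) _).comp (RingEquiv.quotientBot R).symm.toRingHom).toAlgebra
    haveI : IsFractionRing R (FractionRing (R ⧸ (⊥ : Ideal R))) :=
      (IsFractionRing.isFractionRing_iff_of_base_ringEquiv _ (RingEquiv.quotientBot R)).1 inferInstance
    have hu : IsUnit (ℓ : R) := by
      have h := (hchar y ℓ hℓ.ne_zero).map (algebraMap (U.presheaf.stalk y) R)
      rwa [map_natCast] at h
    exact DvrCd.cdLEAt_one (R := R) ℓ hℓ hu
  · show (if x = η then 3 else 1) < q
    split <;> omega

end Groth.Agent.HLocCd
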