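import Groth.Agent.HLocCd.General
import Groth.Agent.CdInt.Model
import Groth.Agent.VarDim.Basic
import Groth.Agent.CAlgOdd.NagataFT.Basic
import Groth.Agent.EtFound.Presentation
import Groth.Agent.S3242
import Groth.Agent.S3246
import Mathlib.RingTheory.DedekindDomain.IntegralClosure
import Groth.Prelude.Def_EGA4b

/-! the punctured normal surface germ -/

universe u

open CategoryTheory CategoryTheory.Limits AlgebraicGeometry Opposite TopologicalSpace

namespace Groth.Agent.HLocCd

set_option autoImplicit false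
set_option maxHeartbeats 1000000
set_option synthInstance.maxHeartbeats 400000
set_option backward.isDefEq.respectTransparency false
set_option backward.isDefEq.respectTransparency.types false
set_option linter.style.haveILetI false

/-- open sets of punctured spectra of two-dimensional normal local domains -/
theorem facts {B : Type u} [CommRing B] [IsDomain B] [IsNoetherianRing B] [IsIntegrallyClosed B]
    (k : Type u) [Field k] [CharZero k] [Algebra k B] (hB : ringKrullDim B ≤ 2)
    (U : (Spec (CommRingCat.of B)).Opens)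
    (hU : ∀ x : ↥(Spec (CommRingCat.of B)), x ∈ U → ¬ IsClosed ({x} : Set ↥(Spec (CommRingCat.of B))))
    [IsIntegral U.toScheme] :
    topologicalKrullDim U.toScheme ≤ 1 ∧
      (∀ y : U.toScheme, y ≠ genericPoint U.toScheme →
        ∃ _ : IsDomain (U.toScheme.presheaf.stalk y), IsDiscreteValuationRing (U.toScheme.presheaf.stalk y)) ∧
      (∀ (y : U.toScheme) (n : ℕ), n ≠ 0 → IsUnit (n : U.toScheme.presheaf.stalk y)) := by
  have hht : ∀ y : U.toScheme, (y.1 : PrimeSpectrum B).asIdeal.height ≤ 1 := by
    intro y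
    let p : PrimeSpectrum B := y.1
    have hnm : ¬ p.asIdeal.IsMaximal := fun h => hU y.1 y.2 ((PrimeSpectrum.isClosed_singleton_iff_isMaximal p).2 h)
    obtain ⟨m, hm, hpm⟩ := Ideal.exists_le_maximal p.asIdeal p.2.ne_top
    have hlt : p.asIdeal < m := lt_of_le_of_ne hpm fun e => hnm (e ▸ hm)
    haveI := hm
    have h1 : (p.asIdeal.height : WithBot ℕ∞) + 1 ≤ m.height := by
      exact_mod_cast Order.add_one_le_of_lt (Ideal.height_strict_mono_of_isPrime hlt)
    have h2 : (p.asIdeal.height : WithBot ℕ∞) + 1 ≤ 2 :=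
      h1.trans ((Ideal.height_le_ringKrullDim_of_ne_top hm.ne_top).trans hB)
    generalize p.asIdeal.height = a at h2 ⊢
    cases a with
    | top => exact absurd h2 (by decide)
    | coe a =>
      have h3 : ((a + 1 : ℕ) : WithBot ℕ∞) ≤ ((2 : ℕ) : WithBot ℕ∞) := by push_cast; exact h2
      rw [Nat.cast_le] at h3
      exact_mod_cast (show a ≤ 1 by omega)
  have hgen : ∀ y : U.toScheme, (y.1 : PrimeSpectrum B).asIdeal = ⊥ → y = genericPoint U.toScheme := by
    intro y hy
    refine (Specializes.antisymm ?_ ((genericPoint_spec U.toScheme).specializes trivial)).eq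
    refine (Topology.IsInducing.subtypeVal.specializes_iff).1 ?_
    exact (PrimeSpectrum.le_iff_specializes (y.1 : PrimeSpectrum B) ((genericPoint U.toScheme).1 : PrimeSpectrum B)).1
      ((congrArg (· ≤ _) hy).mpr bot_le)
  refine ⟨Goldman.dim_le_one_of fun r hr => closure_subset_iff_isClosed.1 fun w hw => ?_, fun y hy => ?_, fun y n hn => ?_⟩
  · by_contra hne
    have hsp : r.1 ⤳ w.1 := Topology.IsInducing.subtypeVal.specializes_iff.2 (specializes_iff_mem_closure.2 hw)
    have hle : (r.1 : PrimeSpectrum B).asIdeal < (w.1 : PrimeSpectrum B).asIdeal :=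
      lt_of_le_of_ne ((PrimeSpectrum.le_iff_specializes (r.1 : PrimeSpectrum B) (w.1 : PrimeSpectrum B)).2 hsp) fun e => hne (Set.mem_singleton_iff.2 (Subtype.ext (PrimeSpectrum.ext e).symm))
    have h1 := Ideal.height_strict_mono_of_isPrime (I := (r.1 : PrimeSpectrum B).asIdeal)
      (J := (w.1 : PrimeSpectrum B).asIdeal) hle
    have h0 : (r.1 : PrimeSpectrum B).asIdeal.height = 0 := ENat.lt_one_iff_eq_zero.1 (lt_of_lt_of_le h1 (hht w))
    exact hr (hgen r (Ideal.height_eq_zero_iff_eq_bot.1 h0))
  · have hp : (y.1 : PrimeSpectrum B).asIdeal ≠ ⊥ := fun h => hy (hgen y h)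
    haveI := CAlgOdd.NagataFT.isDVR_atPrime (y.1 : PrimeSpectrum B).asIdeal (hht y) hp
    let e : U.toScheme.presheaf.stalk y ≃+* Localization.AtPrime (y.1 : PrimeSpectrum B).asIdeal :=
      (U.stalkIso y).commRingCatIsoToRingEquiv.trans (StructureSheaf.stalkIso B y.1).symm.toRingEquiv
    haveI : IsDomain (U.toScheme.presheaf.stalk y) := e.toMulEquiv.isDomain _
    exact ⟨inferInstance, IsDiscreteValuationRing.RingEquivClass.isDiscreteValuationRing e.symm⟩
  · let e : U.toScheme.presheaf.stalk y ≃+* Localization.AtPrime (y.1 : PrimeSpectrum B).asIdeal :=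
      (U.stalkIso y).commRingCatIsoToRingEquiv.trans (StructureSheaf.stalkIso B y.1).symm.toRingEquiv
    have h := ((Nat.cast_ne_zero (R := k)).2 hn).isUnit.map
      ((e.symm.toRingHom.comp (algebraMap B _)).comp (algebraMap k B))
    rwa [map_natCast] at h

/-- the punctured germ has cohomological dimension at most three -/
theorem punctured_germ (k : Type u) [Field k] [CharZero k]
    (R₀ : Type u) [CommRing R₀] [IsDomain R₀] [Algebra k R₀]
    [IsIntegrallyClosed R₀] (hexc : EGA4.IsExcellent R₀) (hdim : ringKrullDim R₀ = 2)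
    (K : Type u) [Field K] [Algebra R₀ K] [Algebra (FractionRing R₀) K]
    [IsScalarTower R₀ (FractionRing R₀) K] [FiniteDimensional (FractionRing R₀) K]
    (U : (Spec (CommRingCat.of ↥(integralClosure R₀ K))).Opens)
    (hU : ∀ x : ↥(Spec (CommRingCat.of ↥(integralClosure R₀ K))), x ∈ U →
      ¬ IsClosed ({x} : Set ↥(Spec (CommRingCat.of ↥(integralClosure R₀ K)))))
    (hne : Nonempty ↥(↑U : Scheme.{u}))
    (hcdK : EtCoh.CohDimLE (Spec (CommRingCat.of K)) 2)
    (hcdv : ∀ x : ↥(↑U : Scheme.{u}), IsClosed ({x} : Set ↥(↑U : Scheme.{u})) →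
      EtCoh.CohDimLE (Spec ((↑U : Scheme.{u}).residueField x)) 1) :
    (AlgebraicGeometry.IsNoetherian U.toScheme ∧ IsReduced U.toScheme) ∧
      topologicalKrullDim U.toScheme ≤ 1 ∧
      (∀ n : ℕ, n ≠ 0 → Dix.InvertibleOn U.toScheme n) ∧ EtCoh.CohDimLE U.toScheme 3 := by
  haveI := hne
  haveI : IsNoetherianRing R₀ := hexc.1
  haveI : CharZero R₀ := charZero_of_injective_ringHom (algebraMap k R₀).injective
  haveI : CharZero (FractionRing R₀) := charZero_of_injective_ringHom (IsFractionRing.injective R₀ _)
  haveI : Algebra.IsSeparable (FractionRing R₀) K := inferInstance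
  let B := integralClosure R₀ K
  haveI : Module.Finite R₀ B := IsIntegralClosure.finite R₀ (FractionRing R₀) K B
  haveI : IsNoetherianRing B := IsNoetherianRing.of_finite R₀ B
  haveI : IsFractionRing B K := IsIntegralClosure.isFractionRing_of_finite_extension R₀ (FractionRing R₀) K B
  haveI : IsIntegrallyClosed B := integralClosure.isIntegrallyClosedOfFiniteExtension (FractionRing R₀)
  haveI : FaithfulSMul R₀ B := (faithfulSMul_iff_algebraMap_injective R₀ B).2 (by
    refine Function.Injective.of_comp (f := algebraMap B K) ?_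
    rw [← RingHom.coe_comp, ← IsScalarTower.algebraMap_eq R₀ B K, IsScalarTower.algebraMap_eq R₀ (FractionRing R₀) K]
    exact (algebraMap (FractionRing R₀) K).injective.comp (IsFractionRing.injective R₀ _))
  have hB : ringKrullDim B ≤ 2 := (VarDim.ringKrullDim_eq_of_isIntegral (R := R₀) (S := B)).le.trans hdim.le
  letI : Algebra k B := ((algebraMap R₀ B).comp (algebraMap k R₀)).toAlgebra
  haveI : AlgebraicGeometry.IsNoetherian (Spec (CommRingCat.of B)) := inferInstance
  haveI : NoetherianSpace ↥(Spec (CommRingCat.of B)) := inferInstance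
  haveI : CompactSpace U.toScheme := isCompact_iff_compactSpace.1 (NoetherianSpace.isCompact (U : Set ↥(Spec (CommRingCat.of B))))
  haveI : IsLocallyNoetherian U.toScheme := inferInstance
  haveI hN : AlgebraicGeometry.IsNoetherian U.toScheme := { }
  haveI : IsIntegral U.toScheme := isIntegral_of_isOpenImmersion U.ι
  obtain ⟨hd, hdvr, hu⟩ := facts k hB U hU
  have hinv : ∀ n : ℕ, n ≠ 0 → Dix.InvertibleOn U.toScheme n := fun n hn z hz => by
    have h := (hu z n hn).map (U.toScheme.residue z).hom
    rw [map_natCast] at h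
    exact h.ne_zero hz
  refine ⟨⟨hN, inferInstance⟩, hd, hinv, cohDimLE_three hd hdvr hu ?_ fun y hy =>
    hcdv y (Goldman.isClosed_of_dim_le_one hd hy)⟩
  let η := genericPoint U.toScheme
  have hgen : (η.1 : ↥(Spec (CommRingCat.of B))) = genericPoint ↥(Spec (CommRingCat.of B)) := by
    rw [← genericPoint_eq_of_isOpenImmersion U.ι]
    rfl
  let r := (U.ι.residueFieldMap η)
  haveI : IsIso r := CdInt.isIso_residueFieldMap U.ι η
  haveI := Groth.Agent.S9681.isIso_residue (X := Spec (CommRingCat.of B))
  haveI : IsDomain (CommRingCat.of B) := inferInstanceAs (IsDomain B)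
  letI : Algebra B (Spec (CommRingCat.of B)).functionField :=
    instAlgebraCarrierFunctionFieldSpec (CommRingCat.of B)
  haveI hff : IsFractionRing B (Spec (CommRingCat.of B)).functionField :=
    AlgebraicGeometry.functionField_isFractionRing_of_affine (CommRingCat.of B)

  let e₁ : K ≃+* (Spec (CommRingCat.of B)).functionField :=
    (IsLocalization.algEquiv (nonZeroDivisors B) K (Spec (CommRingCat.of B)).functionField).toRingEquiv
  let φ : CommRingCat.of K ⟶ U.toScheme.residueField η :=
    e₁.toCommRingCatIso.hom ≫ (Spec (CommRingCat.of B)).residue (genericPoint ↥(Spec (CommRingCat.of B))) ≫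
      ((Spec (CommRingCat.of B)).residueFieldCongr hgen.symm).hom ≫ r
  haveI : IsIso φ := inferInstance
  haveI : IsIntegralHom (Spec.map φ) := inferInstance
  refine CdDim.cohDimLE_of_forall fun ℓ hℓ => CdDim.cdLEAt_of_isIntegralHom hℓ (Spec.map φ)
    (CdDim.cohDimLEAt_of_cohDimLE hcdK ℓ hℓ)

end Groth.Agent.HLocCd
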